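import Mathlib

/-!
# Higman–Kreknin–Kostrikin: definitions (helper1, for S3779)

Graded families of additive subgroups of a Lie ring, indexed by `ZMod n`:
`M : ZMod n → AddSubgroup L` with `⁅M i, M j⁆ ⊆ M (i+j)` and `M 0 = ⊥`.
No spanning or directness assumption is made.
-/

set_option autoImplicit false

namespace Cfsg.Agent.Helper1.HKK

variable {L : Type*} [LieRing L] {n : ℕ}

/-- A `ZMod n`-graded family of additive subgroups with trivial `0`-component. -/
structure IsGradedFam (M : ZMod n → AddSubgroup L) : Prop where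
  lie_mem : ∀ {i j : ZMod n} {x y : L}, x ∈ M i → y ∈ M j → ⁅x, y⁆ ∈ M (i + j)
  zero_eq : M 0 = ⊥

/-- One step of a relative lower central family: `d ↦ ⟨⁅U i, M j⁆ : i + j = d⟩`. -/
def lcfStep (M U : ZMod n → AddSubgroup L) : ZMod n → AddSubgroup L := fun d =>
  AddSubgroup.closure {z | ∃ (i j : ZMod n) (x y : L), i + j = d ∧ x ∈ U i ∧ y ∈ M j ∧ z = ⁅x, y⁆}

/-- The derived family: `d ↦ ⟨⁅M i, M j⁆ : i + j = d⟩`. -/
def der (M : ZMod n → AddSubgroup L) : ZMod n → AddSubgroup L := lcfStep M M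

/-- The lower central family: `lcf M 0 = M`, `lcf M (c+1) = ⁅lcf M c, M⁆` (so `lcf M c = γ_{c+1}`). -/
def lcf (M : ZMod n → AddSubgroup L) : ℕ → ZMod n → AddSubgroup L
  | 0 => M
  | c + 1 => lcfStep M (lcf M c)

/-- The graded Lie closure of a family of sets `T`: the smallest family of additive subgroups
containing `T` degreewise and closed under brackets (degrees add). -/
inductive GrCl (T : ZMod n → Set L) : ZMod n → L → Prop
  | base {d : ZMod n} {x : L} : x ∈ T d → GrCl T d x
  | zero (d : ZMod n) : GrCl T d 0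
  | add {d : ZMod n} {x y : L} : GrCl T d x → GrCl T d y → GrCl T d (x + y)
  | neg {d : ZMod n} {x : L} : GrCl T d x → GrCl T d (-x)
  | lie {a b : ZMod n} {x y : L} : GrCl T a x → GrCl T b y → GrCl T (a + b) ⁅x, y⁆

/-- The generators of degree `> k` (as natural numbers `k < d.val`) of the family `M`. -/
def above (M : ZMod n → AddSubgroup L) (k : ℕ) : ZMod n → Set L := fun d =>
  {x | k < d.val ∧ x ∈ M d}

/-- The Kostrikin–Kreknin function `g(k) = 1 + (p-1) + ... + (p-1)^(k-1)`. -/
def hkkG (p k : ℕ) : ℕ := ∑ i ∈ Finset.range k, (p - 1) ^ i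

/-- Left-normed bracket `⁅⁅⁅x, y₁⁆, y₂⁆, …⁆`. -/
def lnb (x : L) : List L → L
  | [] => x
  | y :: ys => lnb ⁅x, y⁆ ys

end Cfsg.Agent.Helper1.HKK
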