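import Mathlib
import Cfsg.Agent.Helper1.HKK.Defs

/-!
# Basic facts on graded families (helper1, for S3779)
-/

set_option autoImplicit false

namespace Cfsg.Agent.Helper1.HKK

variable {L : Type*} [LieRing L] {n : ℕ}

theorem mem_lcfStep_of_mem {M U : ZMod n → AddSubgroup L} {i j : ZMod n} {x y : L}
    (hx : x ∈ U i) (hy : y ∈ M j) : ⁅x, y⁆ ∈ lcfStep M U (i + j) :=
  AddSubgroup.subset_closure ⟨i, j, x, y, rfl, hx, hy, rfl⟩

theorem mem_der_of_mem {M : ZMod n → AddSubgroup L} {i j : ZMod n} {x y : L}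
    (hx : x ∈ M i) (hy : y ∈ M j) : ⁅x, y⁆ ∈ der M (i + j) :=
  mem_lcfStep_of_mem hx hy

/-- To show `lcfStep M U d ≤ K` it suffices to treat the generating brackets. -/
theorem lcfStep_le_iff {M U : ZMod n → AddSubgroup L} {d : ZMod n} {K : AddSubgroup L} :
    lcfStep M U d ≤ K ↔ ∀ (i j : ZMod n) (x y : L), i + j = d → x ∈ U i → y ∈ M j → ⁅x, y⁆ ∈ K := by
  unfold lcfStep
  rw [AddSubgroup.closure_le]
  constructor
  · intro h i j x y hij hx hy
    exact h ⟨i, j, x, y, hij, hx, hy, rfl⟩
  · rintro h z ⟨i, j, x, y, hij, hx, hy, rfl⟩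
    exact h i j x y hij hx hy

theorem lcfStep_le (M U : ZMod n → AddSubgroup L) (hM : IsGradedFam M) (hU : ∀ d, U d ≤ M d)
    (d : ZMod n) : lcfStep M U d ≤ M d := by
  rw [lcfStep_le_iff]
  intro i j x y hij hx hy
  rw [← hij]
  exact hM.lie_mem (hU i hx) hy

theorem lcfStep_mono {M U U' : ZMod n → AddSubgroup L} (h : ∀ d, U d ≤ U' d) (d : ZMod n) :
    lcfStep M U d ≤ lcfStep M U' d := by
  rw [lcfStep_le_iff]
  intro i j x y hij hx hy
  rw [← hij]
  exact mem_lcfStep_of_mem (h i hx) hy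

theorem der_le (M : ZMod n → AddSubgroup L) (hM : IsGradedFam M) (d : ZMod n) : der M d ≤ M d :=
  lcfStep_le M M hM (fun _ => le_rfl) d

theorem der_mono {M M' : ZMod n → AddSubgroup L} (h : ∀ d, M d ≤ M' d) (d : ZMod n) :
    der M d ≤ der M' d := by
  unfold der
  rw [lcfStep_le_iff]
  intro i j x y hij hx hy
  rw [← hij]
  exact mem_lcfStep_of_mem (h i hx) (h j hy)

theorem isGradedFam_der (M : ZMod n → AddSubgroup L) (hM : IsGradedFam M) : IsGradedFam (der M) where
  lie_mem := fun {i j x y} hx hy => mem_der_of_mem (der_le M hM i hx) (der_le M hM j hy)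
  zero_eq := by
    have h := der_le M hM 0
    rw [hM.zero_eq] at h
    exact le_bot_iff.mp h

theorem isGradedFam_iter (M : ZMod n → AddSubgroup L) (hM : IsGradedFam M) (m : ℕ) :
    IsGradedFam (der^[m] M) := by
  induction m with
  | zero => exact hM
  | succ m ih =>
    rw [Function.iterate_succ_apply']
    exact isGradedFam_der _ ih

theorem iter_succ_le (M : ZMod n → AddSubgroup L) (hM : IsGradedFam M) (m : ℕ) (d : ZMod n) :
    (der^[m + 1] M) d ≤ (der^[m] M) d := by
  rw [Function.iterate_succ_apply']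
  exact der_le _ (isGradedFam_iter M hM m) d

theorem iter_anti (M : ZMod n → AddSubgroup L) (hM : IsGradedFam M) {m m' : ℕ} (h : m ≤ m')
    (d : ZMod n) : (der^[m'] M) d ≤ (der^[m] M) d := by
  induction m', h using Nat.le_induction with
  | base => exact le_rfl
  | succ m' _ ih => exact (iter_succ_le M hM m' d).trans ih

theorem iter_le (M : ZMod n → AddSubgroup L) (hM : IsGradedFam M) (m : ℕ) (d : ZMod n) :
    (der^[m] M) d ≤ M d := iter_anti M hM (Nat.zero_le m) d

theorem iter_add (M : ZMod n → AddSubgroup L) (a b : ℕ) : der^[a + b] M = der^[a] (der^[b] M) :=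
  Function.iterate_add_apply der a b M

theorem lcf_le (M : ZMod n → AddSubgroup L) (hM : IsGradedFam M) (c : ℕ) (d : ZMod n) :
    lcf M c d ≤ M d := by
  induction c generalizing d with
  | zero => exact le_rfl
  | succ c ih => exact lcfStep_le M _ hM ih d

theorem lcf_succ (M : ZMod n → AddSubgroup L) (c : ℕ) : lcf M (c + 1) = lcfStep M (lcf M c) := rfl

theorem lcf_zero (M : ZMod n → AddSubgroup L) : lcf M 0 = M := rfl

theorem lcf_one (M : ZMod n → AddSubgroup L) : lcf M 1 = der M := rfl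

/-- Elements of the graded closure of `T` lie in `M`, when `T ⊆ M` degreewise. -/
theorem GrCl.mem_of_le {T : ZMod n → Set L} {M : ZMod n → AddSubgroup L} (hM : IsGradedFam M)
    (hT : ∀ d, T d ⊆ M d) {d : ZMod n} {a : L} (h : GrCl T d a) : a ∈ M d := by
  induction h with
  | base hx => exact hT _ hx
  | zero d => exact (M d).zero_mem
  | add _ _ ih1 ih2 => exact (M _).add_mem ih1 ih2
  | neg _ ih => exact (M _).neg_mem ih
  | lie _ _ ih1 ih2 => exact hM.lie_mem ih1 ih2

theorem GrCl.mono {T T' : ZMod n → Set L} (hT : ∀ d, T d ⊆ T' d) {d : ZMod n} {a : L}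
    (h : GrCl T d a) : GrCl T' d a := by
  induction h with
  | base hx => exact GrCl.base (hT _ hx)
  | zero d => exact GrCl.zero d
  | add _ _ ih1 ih2 => exact GrCl.add ih1 ih2
  | neg _ ih => exact GrCl.neg ih
  | lie _ _ ih1 ih2 => exact GrCl.lie ih1 ih2

/-- The graded closure, as an additive subgroup in each degree. -/
def grClSub (T : ZMod n → Set L) (d : ZMod n) : AddSubgroup L where
  carrier := {x | GrCl T d x}
  zero_mem' := GrCl.zero d
  add_mem' := GrCl.add
  neg_mem' := GrCl.neg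

theorem mem_grClSub {T : ZMod n → Set L} {d : ZMod n} {x : L} : x ∈ grClSub T d ↔ GrCl T d x := Iff.rfl

theorem above_subset (M : ZMod n → AddSubgroup L) (k : ℕ) (d : ZMod n) : above M k d ⊆ M d :=
  fun _ hx => hx.2

theorem lnb_nil (x : L) : lnb x [] = x := rfl

theorem lnb_cons (x y : L) (ys : List L) : lnb x (y :: ys) = lnb ⁅x, y⁆ ys := rfl

theorem lnb_append (x : L) (ys zs : List L) : lnb x (ys ++ zs) = lnb (lnb x ys) zs := by
  induction ys generalizing x with
  | nil => rfl
  | cons y ys ih => simp only [List.cons_append, lnb_cons, ih]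

theorem lnb_concat (x : L) (ys : List L) (z : L) : lnb x (ys ++ [z]) = ⁅lnb x ys, z⁆ := by
  rw [lnb_append]; rfl

end Cfsg.Agent.Helper1.HKK
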