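import Mathlib

/-!
# A Lie ring structure on a direct sum from graded Lie data (helper1, piece LR1 of S3779)
-/

set_option autoImplicit false

open DirectSum

namespace Cfsg.Agent.Helper1.HKK

universe u

/-- Graded Lie data on a family of abelian groups indexed by `ℕ`: biadditive brackets
`A i × A j → A (i + j)`, alternating, and satisfying the Jacobi identity (stated in the direct sum,
so that no casts are needed). -/
structure GradedLieData (A : ℕ → Type u) [∀ n, AddCommGroup (A n)] where
  /-- the graded bracket -/
  β : ∀ i j, A i →+ A j →+ A (i + j)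
  alt : ∀ i (a : A i), β i i a a = 0
  skew : ∀ i j (a : A i) (b : A j),
    DirectSum.of A (i + j) (β i j a b) + DirectSum.of A (j + i) (β j i b a) = 0
  jac : ∀ i j k (a : A i) (b : A j) (c : A k),
    DirectSum.of A (i + (j + k)) (β i (j + k) a (β j k b c)) =
      DirectSum.of A ((i + j) + k) (β (i + j) k (β i j a b) c) +
      DirectSum.of A (j + (i + k)) (β j (i + k) b (β i k a c))

variable {A : ℕ → Type u} [∀ n, AddCommGroup (A n)]

/-- The bracket on the direct sum, as a biadditive map. -/
def GradedLieData.brk (D : GradedLieData A) : (⨁ n, A n) →+ (⨁ n, A n) →+ ⨁ n, A n :=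
  DirectSum.toAddMonoid fun i =>
    AddMonoidHom.flip <|
      DirectSum.toAddMonoid fun j =>
        AddMonoidHom.flip <| (DirectSum.of A (i + j)).compHom.comp <| D.β i j

theorem GradedLieData.brk_of_of (D : GradedLieData A) {i j : ℕ} (a : A i) (b : A j) :
    D.brk (DirectSum.of A i a) (DirectSum.of A j b) = DirectSum.of A (i + j) (D.β i j a b) := by
  simp [GradedLieData.brk, DirectSum.toAddMonoid_of, AddMonoidHom.flip_apply]

theorem GradedLieData.brk_skew (D : GradedLieData A) (x y : ⨁ n, A n) :
    D.brk x y + D.brk y x = 0 := by
  induction x using DirectSum.induction_on with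
  | zero => simp
  | of i a =>
    induction y using DirectSum.induction_on with
    | zero => simp
    | of j b => rw [D.brk_of_of, D.brk_of_of]; exact D.skew i j a b
    | add y y' hy hy' =>
      rw [map_add, map_add, AddMonoidHom.add_apply]
      calc _ = (D.brk (DirectSum.of A i a) y + D.brk y (DirectSum.of A i a)) +
            (D.brk (DirectSum.of A i a) y' + D.brk y' (DirectSum.of A i a)) := by abel
        _ = 0 := by rw [hy, hy', add_zero]
  | add x x' hx hx' =>
    rw [map_add, map_add, AddMonoidHom.add_apply]
    calc _ = (D.brk x y + D.brk y x) + (D.brk x' y + D.brk y x') := by abel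
      _ = 0 := by rw [hx, hx', add_zero]

theorem GradedLieData.brk_self (D : GradedLieData A) (x : ⨁ n, A n) : D.brk x x = 0 := by
  induction x using DirectSum.induction_on with
  | zero => simp
  | of i a => rw [D.brk_of_of, D.alt, map_zero]
  | add x y hx hy =>
    rw [map_add, map_add, AddMonoidHom.add_apply, AddMonoidHom.add_apply, hx, hy]
    have := D.brk_skew x y
    calc _ = D.brk x y + D.brk y x := by abel
      _ = 0 := this

theorem GradedLieData.brk_jacobi (D : GradedLieData A) (x y z : ⨁ n, A n) :
    D.brk x (D.brk y z) = D.brk (D.brk x y) z + D.brk y (D.brk x z) := by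
  induction x using DirectSum.induction_on with
  | zero => simp
  | add x x' hx hx' =>
    simp only [map_add, AddMonoidHom.add_apply, hx, hx']
    abel
  | of i a =>
    induction y using DirectSum.induction_on with
    | zero => simp
    | add y y' hy hy' =>
      simp only [map_add, AddMonoidHom.add_apply, hy, hy']
      abel
    | of j b =>
      induction z using DirectSum.induction_on with
      | zero => simp
      | add z z' hz hz' =>
        simp only [map_add, hz, hz']
        abel
      | of k c =>
        simp only [D.brk_of_of]
        exact D.jac i j k a b c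

/-- The direct sum `⨁ n, A n`, as a type carrying the Lie ring structure of the graded Lie data `D`. -/
def GLie (_D : GradedLieData A) : Type u := ⨁ n, A n

namespace GLie

variable (D : GradedLieData A)

instance : AddCommGroup (GLie D) := inferInstanceAs (AddCommGroup (⨁ n, A n))

/-- The identification with the direct sum. -/
def toSum : GLie D →+ ⨁ n, A n := AddMonoidHom.id _

/-- The identification with the direct sum. -/
def ofSum : (⨁ n, A n) →+ GLie D := AddMonoidHom.id _

@[simp] theorem toSum_ofSum (x : ⨁ n, A n) : toSum D (ofSum D x) = x := rfl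
@[simp] theorem ofSum_toSum (x : GLie D) : ofSum D (toSum D x) = x := rfl

instance : Bracket (GLie D) (GLie D) := ⟨fun x y => ofSum D (D.brk (toSum D x) (toSum D y))⟩

theorem lie_def (x y : GLie D) : ⁅x, y⁆ = ofSum D (D.brk (toSum D x) (toSum D y)) := rfl

instance : LieRing (GLie D) where
  add_lie x y z := by
    simp only [lie_def, map_add, AddMonoidHom.add_apply]
  lie_add x y z := by
    simp only [lie_def, map_add]
  lie_self x := by
    rw [lie_def, D.brk_self, map_zero]
  leibniz_lie x y z := by
    simp only [lie_def, toSum_ofSum]
    rw [D.brk_jacobi, map_add]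

/-- The homogeneous element of degree `n`. -/
def ι (n : ℕ) : A n →+ GLie D := (ofSum D).comp (DirectSum.of A n)

theorem lie_ι {i j : ℕ} (a : A i) (b : A j) : ⁅ι D i a, ι D j b⁆ = ι D (i + j) (D.β i j a b) := by
  change ofSum D (D.brk (DirectSum.of A i a) (DirectSum.of A j b)) = _
  rw [D.brk_of_of]
  rfl

theorem ι_injective (n : ℕ) : Function.Injective (ι D n) := DirectSum.of_injective n

/-- Every element is a finite sum of homogeneous elements. -/
theorem exists_sum_ι (x : GLie D) : ∃ (N : ℕ) (a : ∀ n, A n), x = ∑ n ∈ Finset.range N, ι D n (a n) := by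
  classical
  induction x using DirectSum.induction_on with
  | zero => exact ⟨0, fun _ => 0, by simp; rfl⟩
  | of i a =>
    refine ⟨i + 1, fun n => if h : n = i then h ▸ a else 0, ?_⟩
    rw [Finset.sum_eq_single i]
    · simp
      rfl
    · intro n _ hn
      simp [hn]
    · intro h
      exact absurd (Finset.mem_range.mpr (Nat.lt_succ_self i)) h
  | add x y hx hy =>
    obtain ⟨N, a, rfl⟩ := hx
    obtain ⟨N', a', rfl⟩ := hy
    refine ⟨max N N', fun n => (if n < N then a n else 0) + (if n < N' then a' n else 0), ?_⟩
    simp only [map_add, Finset.sum_add_distrib]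
    congr 1
    · rw [← Finset.sum_subset (Finset.range_subset_range.mpr (le_max_left N N'))]
      · refine Finset.sum_congr rfl (fun n hn => ?_)
        rw [if_pos (Finset.mem_range.mp hn)]
      · intro n _ hn
        rw [if_neg (fun h => hn (Finset.mem_range.mpr h)), map_zero]
    · rw [← Finset.sum_subset (Finset.range_subset_range.mpr (le_max_right N N'))]
      · refine Finset.sum_congr rfl (fun n hn => ?_)
        rw [if_pos (Finset.mem_range.mp hn)]
      · intro n _ hn
        rw [if_neg (fun h => hn (Finset.mem_range.mpr h)), map_zero]

/-- Homogeneous components are independent. -/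
theorem ι_eq_zero_of_sum_eq_zero (N : ℕ) (a : ∀ n, A n)
    (h : ∑ n ∈ Finset.range N, ι D n (a n) = 0) : ∀ n < N, a n = 0 := by
  classical
  intro m hm
  have h1 : (∑ n ∈ Finset.range N, DirectSum.of A n (a n)) m = 0 := by
    have : (∑ n ∈ Finset.range N, DirectSum.of A n (a n)) = 0 := h
    rw [this]; rfl
  rw [DirectSum.sum_apply] at h1
  rw [Finset.sum_eq_single m] at h1
  · simpa using h1
  · intro n _ hn
    exact DirectSum.of_eq_of_ne _ _ _ (Ne.symm hn)
  · intro h
    exact absurd (Finset.mem_range.mpr hm) h

end GLie

end Cfsg.Agent.Helper1.HKK
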