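import Mathlib

/-!
# Lower central series, 1-indexed with `Gam G 0 = Gam G 1 = ⊤` (helper1, for S3779)
-/

set_option autoImplicit false

namespace Cfsg.Agent.Helper1.HKK

/-- `Gam G n = γ_n(G)` for `n ≥ 1` (so `Gam G 1 = ⊤`, `Gam G 2 = G'`), and `Gam G 0 = ⊤`. -/
def Gam (G : Type*) [Group G] (n : ℕ) : Subgroup G := (⊤ : Subgroup G).lowerCentralSeries (n - 1)

end Cfsg.Agent.Helper1.HKK
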