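import Mathlib
import Cfsg.Agent.Helper1.HKK.Basic

/-!
# Kreknin's key step `P(k)` (helper1, piece K2 of S3779)
-/

set_option autoImplicit false

namespace Cfsg.Agent.Helper1.HKK

variable {L : Type*} [LieRing L] {n : ℕ}

/-- The statement of the expansion lemma (K1), as a hypothesis shape. -/
def K1Stmt (L : Type*) [LieRing L] (n : ℕ) : Prop :=
  ∀ (M N : ZMod n → AddSubgroup L), IsGradedFam M → (∀ d, N d ≤ M d) →
    ∀ (i : ℕ) {d : ZMod n} {a : L}, GrCl (above N i) d a → ∀ {ρ : ZMod n} {y : L}, y ∈ M ρ →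
    ⁅y, a⁆ ∈ AddSubgroup.closure {z : L | ∃ (ρ' e : ZMod n) (y' g : L),
      ρ' + e = ρ + d ∧ i < e.val ∧ g ∈ N e ∧ y' ∈ M ρ' ∧ z = ⁅y', g⁆}

theorem val_add_cases [NeZero n] {ρ e : ZMod n} {k : ℕ} (hkn : k < n) (h : ρ + e = (k : ZMod n)) :
    ρ.val + e.val = k ∨ ρ.val + e.val = n + k := by
  have h0 := congrArg ZMod.val h
  rw [ZMod.val_add, ZMod.val_natCast_of_lt hkn] at h0
  have h1 := ZMod.val_lt ρ
  have h2 := ZMod.val_lt e
  rcases lt_or_ge (ρ.val + e.val) n with hlt | hge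
  · rw [Nat.mod_eq_of_lt hlt] at h0
    exact Or.inl h0
  · have h3 : (ρ.val + e.val) % n = ρ.val + e.val - n := by
      rw [Nat.mod_eq_sub_mod hge, Nat.mod_eq_of_lt (by omega)]
    rw [h3] at h0
    exact Or.inr (by omega)

/-- A bracket of two homogeneous elements of `M` whose degrees add up to `k` is in the graded closure
of the generators of degree `> k`, as soon as the natural degrees add up to `n + k`. -/
theorem grcl_of_wrap [NeZero n] {k : ℕ} (M : ZMod n → AddSubgroup L) {ρ e : ZMod n}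
    (hsum : ρ + e = (k : ZMod n)) (hval : ρ.val + e.val = n + k) {y g : L} (hy : y ∈ M ρ) (hg : g ∈ M e) :
    GrCl (above M k) (k : ZMod n) ⁅y, g⁆ := by
  have h1 := ZMod.val_lt ρ
  have h2 := ZMod.val_lt e
  have hy' : GrCl (above M k) ρ y := GrCl.base ⟨by omega, hy⟩
  have hg' : GrCl (above M k) e g := GrCl.base ⟨by omega, hg⟩
  have := GrCl.lie hy' hg'
  rwa [hsum] at this

theorem pow_sub_pow_le {k i d : ℕ} (hid : i < d) : 2 ^ (k - 1) - 2 ^ (d - 1) ≤ 2 ^ (k - 1) - 2 ^ i := by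
  have : 2 ^ i ≤ 2 ^ (d - 1) := Nat.pow_le_pow_right (by norm_num) (by omega)
  omega

/-- The inner (downward) induction `Q(i₀)`. -/
theorem kreknin_Q [NeZero n] (hK1 : K1Stmt L n) (k : ℕ) (hkn : k < n)
    (M : ZMod n → AddSubgroup L) (hM : IsGradedFam M)
    (P : ∀ i, 1 ≤ i → i < k → ∀ N : ZMod n → AddSubgroup L, IsGradedFam N →
      ∀ u ∈ (der^[2 ^ (i - 1)] N) (i : ZMod n), GrCl (above N i) (i : ZMod n) u) :
    ∀ m i₀ : ℕ, 1 ≤ i₀ → i₀ < k → k - i₀ = m →
      ∀ a ∈ (der^[2 ^ (k - 1) - 2 ^ (i₀ - 1)] M) (i₀ : ZMod n), ∀ b ∈ M ((k - i₀ : ℕ) : ZMod n),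
        GrCl (above M k) (k : ZMod n) ⁅a, b⁆ := by
  intro m
  induction m using Nat.strong_induction_on with
  | _ m IH =>
  intro i₀ hi1 hik hm a ha b hb
  -- depth bookkeeping
  set α' : ℕ := 2 ^ (k - 1) - 2 ^ i₀ with hα'
  have hpow : 2 ^ i₀ ≤ 2 ^ (k - 1) := Nat.pow_le_pow_right (by norm_num) (by omega)
  have hpow2 : 2 ^ i₀ = 2 * 2 ^ (i₀ - 1) := by
    conv_lhs => rw [show i₀ = (i₀ - 1) + 1 by omega]
    rw [pow_succ]; ring
  have hdepth : 2 ^ (k - 1) - 2 ^ (i₀ - 1) = 2 ^ (i₀ - 1) + α' := by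
    rw [hα']; omega
  set N : ZMod n → AddSubgroup L := der^[α'] M with hN
  have hNgr : IsGradedFam N := isGradedFam_iter M hM α'
  have hNM : ∀ d, N d ≤ M d := fun d => iter_le M hM α' d
  have ha' : a ∈ (der^[2 ^ (i₀ - 1)] N) (i₀ : ZMod n) := by
    rw [hdepth, iter_add] at ha
    exact ha
  have hacl : GrCl (above N i₀) (i₀ : ZMod n) a := P i₀ hi1 hik N hNgr a ha'
  have hexp := hK1 M N hM hNM i₀ hacl hb
  -- the target as an additive subgroup
  have hsub : AddSubgroup.closure {z : L | ∃ (ρ' e : ZMod n) (y' g : L),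
      ρ' + e = ((k - i₀ : ℕ) : ZMod n) + (i₀ : ZMod n) ∧ i₀ < e.val ∧ g ∈ N e ∧ y' ∈ M ρ' ∧ z = ⁅y', g⁆}
      ≤ grClSub (above M k) (k : ZMod n) := by
    rw [AddSubgroup.closure_le]
    rintro z ⟨ρ', e, y', g, hsum, hie, hg, hy', rfl⟩
    rw [SetLike.mem_coe, mem_grClSub]
    have hsum' : ρ' + e = (k : ZMod n) := by
      rw [hsum, ← Nat.cast_add]
      congr 1
      omega
    by_cases hρ0 : ρ' = 0
    · subst hρ0
      rw [hM.zero_eq, AddSubgroup.mem_bot] at hy'
      subst hy'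
      rw [zero_lie]
      exact GrCl.zero _
    have hρpos : 0 < ρ'.val := by
      rcases Nat.eq_zero_or_pos ρ'.val with h0 | h0
      · exact absurd ((ZMod.val_eq_zero ρ').mp h0) hρ0
      · exact h0
    rcases val_add_cases hkn hsum' with hv | hv
    · -- natural degrees add up to k : use Q(d), d = e.val
      have hd1 : i₀ < e.val := hie
      have hdk : e.val < k := by omega
      have he : ((e.val : ℕ) : ZMod n) = e := ZMod.natCast_zmod_val e
      have hρ : ((k - e.val : ℕ) : ZMod n) = ρ' := by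
        have : k - e.val = ρ'.val := by omega
        rw [this]
        exact ZMod.natCast_zmod_val ρ'
      have hg' : g ∈ (der^[2 ^ (k - 1) - 2 ^ (e.val - 1)] M) ((e.val : ℕ) : ZMod n) := by
        rw [he]
        exact iter_anti M hM (pow_sub_pow_le hd1) e hg
      have hy'' : y' ∈ M ((k - e.val : ℕ) : ZMod n) := by rw [hρ]; exact hy'
      have hres := IH (k - e.val) (by omega) e.val (by omega) hdk rfl g hg' y' hy''
      have hskew : ⁅y', g⁆ = -⁅g, y'⁆ := (lie_skew y' g).symm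
      rw [hskew]
      exact GrCl.neg hres
    · exact grcl_of_wrap M hsum' hv hy' (hNM e hg)
  have hba : GrCl (above M k) (k : ZMod n) ⁅b, a⁆ := hsub hexp
  have hskew : ⁅a, b⁆ = -⁅b, a⁆ := (lie_skew a b).symm
  rw [hskew]
  exact GrCl.neg hba

/-- (K2) Kreknin's key step `P(k)`, from the expansion lemma (K1). -/
theorem kreknin_step_of [NeZero n] (hK1 : K1Stmt L n) (k : ℕ) (hk1 : 1 ≤ k) (hkn : k < n)
    (M : ZMod n → AddSubgroup L) (hM : IsGradedFam M) :
    ∀ u ∈ (der^[2 ^ (k - 1)] M) (k : ZMod n), GrCl (above M k) (k : ZMod n) u := by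
  induction k using Nat.strong_induction_on generalizing M with
  | _ k IHk =>
  have P : ∀ i, 1 ≤ i → i < k → ∀ N : ZMod n → AddSubgroup L, IsGradedFam N →
      ∀ u ∈ (der^[2 ^ (i - 1)] N) (i : ZMod n), GrCl (above N i) (i : ZMod n) u :=
    fun i hi1 hik N hN => IHk i hik hi1 (hik.trans hkn) N hN
  have Q := kreknin_Q hK1 k hkn M hM P
  intro u hu
  set D : ZMod n → AddSubgroup L := der^[2 ^ (k - 1) - 1] M with hD
  have hDgr : IsGradedFam D := isGradedFam_iter M hM _
  have hpos : 1 ≤ 2 ^ (k - 1) := Nat.one_le_two_pow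
  have hu' : u ∈ der D (k : ZMod n) := by
    have : 2 ^ (k - 1) = (2 ^ (k - 1) - 1) + 1 := by omega
    rw [this, Function.iterate_succ_apply'] at hu
    exact hu
  have hle : der D (k : ZMod n) ≤ grClSub (above M k) (k : ZMod n) := by
    unfold der
    rw [lcfStep_le_iff]
    intro i j x y hij hx hy
    rw [mem_grClSub]
    by_cases hi0 : i = 0
    · subst hi0
      rw [hDgr.zero_eq, AddSubgroup.mem_bot] at hx
      subst hx
      rw [zero_lie]
      exact GrCl.zero _
    by_cases hj0 : j = 0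
    · subst hj0
      rw [hDgr.zero_eq, AddSubgroup.mem_bot] at hy
      subst hy
      rw [lie_zero]
      exact GrCl.zero _
    have hipos : 0 < i.val := by
      rcases Nat.eq_zero_or_pos i.val with h0 | h0
      · exact absurd ((ZMod.val_eq_zero i).mp h0) hi0
      · exact h0
    have hjpos : 0 < j.val := by
      rcases Nat.eq_zero_or_pos j.val with h0 | h0
      · exact absurd ((ZMod.val_eq_zero j).mp h0) hj0
      · exact h0
    have hxM : x ∈ M i := iter_le M hM _ i hx
    have hyM : y ∈ M j := iter_le M hM _ j hy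
    rcases val_add_cases hkn hij with hv | hv
    · have hik : i.val < k := by omega
      have hi : ((i.val : ℕ) : ZMod n) = i := ZMod.natCast_zmod_val i
      have hj : ((k - i.val : ℕ) : ZMod n) = j := by
        have : k - i.val = j.val := by omega
        rw [this]
        exact ZMod.natCast_zmod_val j
      have hx' : x ∈ (der^[2 ^ (k - 1) - 2 ^ (i.val - 1)] M) ((i.val : ℕ) : ZMod n) := by
        rw [hi]
        refine iter_anti M hM ?_ i hx
        have : 1 ≤ 2 ^ (i.val - 1) := Nat.one_le_two_pow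
        omega
      have hy' : y ∈ M ((k - i.val : ℕ) : ZMod n) := by rw [hj]; exact hyM
      exact Q (k - i.val) i.val hipos hik rfl x hx' y hy'
    · exact grcl_of_wrap M hij hv hxM hyM
  exact hle hu'

end Cfsg.Agent.Helper1.HKK
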