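import Mathlib
import Cfsg.Agent.Helper1.HKK.K2
import Cfsg.Agent.Helper65.HKKK1
import Cfsg.Agent.Helper12.HKKK3

/-!
# Kreknin's theorem for graded families (helper1, glue of K1 + K2 + K3 for S3779)
-/

set_option autoImplicit false

namespace Cfsg.Agent.Helper1.HKK

variable {L : Type*} [LieRing L] {n : ℕ}

theorem k1Stmt (L : Type*) [LieRing L] (n : ℕ) : K1Stmt L n :=
  fun M N hM hNM i _ _ ha _ _ hy => Cfsg.Agent.Helper65.HKK.lie_grcl_mem_closure M N hM hNM i ha hy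

/-- (K2) Kreknin's key step `P(k)`. -/
theorem kreknin_step [NeZero n] (k : ℕ) (hk1 : 1 ≤ k) (hkn : k < n)
    (M : ZMod n → AddSubgroup L) (hM : IsGradedFam M) :
    ∀ u ∈ (der^[2 ^ (k - 1)] M) (k : ZMod n), GrCl (above M k) (k : ZMod n) u :=
  kreknin_step_of (k1Stmt L n) k hk1 hkn M hM

/-- (K3) Kreknin's theorem for graded families: derived length `≤ 2^(n-1) - 1`. -/
theorem kreknin [NeZero n] (M : ZMod n → AddSubgroup L) (hM : IsGradedFam M) :
    ∀ d : ZMod n, (der^[2 ^ (n - 1) - 1] M) d = ⊥ :=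
  Cfsg.Agent.Helper12.HKKK3.kreknin' (fun k hk1 hkn M hM => kreknin_step k hk1 hkn M hM) M hM

end Cfsg.Agent.Helper1.HKK
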