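import Mathlib
import Cfsg.Agent.Helper1.HKK.Defs

/-!
# The loop Lie ring `L[C_p]` (helper1, for S3779)

`Loop p L = (ZMod p → L)` with the convolution bracket `⁅f, g⁆ k = ∑ i, ⁅f i, g (k - i)⁆`.
This replaces the extension of scalars to `ℤ[ω]` in the Higman–Kreknin–Kostrikin argument.
-/

set_option autoImplicit false

namespace Cfsg.Agent.Helper1.HKK

/-- Functions `ZMod p → L`, with the convolution Lie bracket. -/
structure Loop (p : ℕ) (L : Type*) where
  /-- the underlying function -/
  toFun : ZMod p → L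

namespace Loop

variable {p : ℕ} {L : Type*}

instance : CoeFun (Loop p L) (fun _ => ZMod p → L) := ⟨Loop.toFun⟩

/-- `Loop p L` is equivalent to the function type. -/
def equivFun : Loop p L ≃ (ZMod p → L) := ⟨Loop.toFun, Loop.mk, fun _ => rfl, fun _ => rfl⟩

instance [AddCommGroup L] : AddCommGroup (Loop p L) := equivFun.addCommGroup

@[ext] theorem ext {f g : Loop p L} (h : ∀ i : ZMod p, f i = g i) : f = g := by
  cases f; cases g; congr; exact funext h

@[simp] theorem mk_apply (F : ZMod p → L) (i : ZMod p) : (Loop.mk F) i = F i := rfl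
@[simp] theorem add_apply [AddCommGroup L] (f g : Loop p L) (i : ZMod p) : (f + g) i = f i + g i := rfl
@[simp] theorem zero_apply [AddCommGroup L] (i : ZMod p) : (0 : Loop p L) i = 0 := rfl
@[simp] theorem neg_apply [AddCommGroup L] (f : Loop p L) (i : ZMod p) : (-f) i = -f i := rfl
@[simp] theorem sub_apply [AddCommGroup L] (f g : Loop p L) (i : ZMod p) : (f - g) i = f i - g i := rfl
@[simp] theorem nsmul_apply [AddCommGroup L] (m : ℕ) (f : Loop p L) (i : ZMod p) : (m • f) i = m • f i := rfl
@[simp] theorem zsmul_apply [AddCommGroup L] (m : ℤ) (f : Loop p L) (i : ZMod p) : (m • f) i = m • f i := rfl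

theorem sum_apply [AddCommGroup L] {ι : Type*} (s : Finset ι) (F : ι → Loop p L) (i : ZMod p) :
    (∑ t ∈ s, F t) i = ∑ t ∈ s, F t i := by
  classical
  induction s using Finset.induction_on with
  | empty => simp
  | insert a s ha ih => rw [Finset.sum_insert ha, Finset.sum_insert ha, add_apply, ih]

variable [NeZero p] [LieRing L]

instance : Bracket (Loop p L) (Loop p L) := ⟨fun f g => ⟨fun k => ∑ i : ZMod p, ⁅f i, g (k - i)⁆⟩⟩

theorem lie_apply (f g : Loop p L) (k : ZMod p) : ⁅f, g⁆ k = ∑ i : ZMod p, ⁅f i, g (k - i)⁆ := rfl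

instance : LieRing (Loop p L) where
  add_lie f f' g := by
    ext k; simp only [lie_apply, add_apply, add_lie, Finset.sum_add_distrib]
  lie_add f g g' := by
    ext k; simp only [lie_apply, add_apply, lie_add, Finset.sum_add_distrib]
  lie_self f := by
    ext k
    rw [lie_apply, zero_apply]
    refine Finset.sum_involution (fun i _ => k - i) ?_ ?_ ?_ ?_
    · intro i _
      rw [sub_sub_cancel, ← lie_skew (f i) (f (k - i)), neg_add_cancel]
    · intro i _ hne heq
      apply hne
      rw [heq]
      exact lie_self _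
    · intro i _; exact Finset.mem_univ _
    · intro i _; exact sub_sub_cancel k i
  leibniz_lie f g h := by
    ext k
    simp only [lie_apply, add_apply, lie_sum, sum_lie]
    -- LHS: ∑ i, ∑ j, ⁅f i, ⁅g j, h (k - i - j)⁆⁆
    have e1 : ∑ m : ZMod p, ∑ i : ZMod p, ⁅⁅f i, g (m - i)⁆, h (k - m)⁆
        = ∑ i : ZMod p, ∑ j : ZMod p, ⁅⁅f i, g j⁆, h (k - i - j)⁆ := by
      rw [Finset.sum_comm]
      refine Finset.sum_congr rfl (fun i _ => ?_)
      refine Fintype.sum_equiv (Equiv.subRight i) _ _ (fun m => ?_)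
      simp only [Equiv.subRight_apply]
      congr 2
      abel
    have e2 : ∑ j : ZMod p, ∑ i : ZMod p, ⁅g j, ⁅f i, h (k - j - i)⁆⁆
        = ∑ i : ZMod p, ∑ j : ZMod p, ⁅g j, ⁅f i, h (k - i - j)⁆⁆ := by
      rw [Finset.sum_comm]
      refine Finset.sum_congr rfl (fun i _ => Finset.sum_congr rfl (fun j _ => ?_))
      congr 3
      abel
    rw [e1, e2, ← Finset.sum_add_distrib]
    refine Finset.sum_congr rfl (fun i _ => ?_)
    rw [← Finset.sum_add_distrib]
    refine Finset.sum_congr rfl (fun j _ => ?_)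
    exact leibniz_lie _ _ _

end Loop

end Cfsg.Agent.Helper1.HKK
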