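import Mathlib
import Cfsg.Agent.Helper1.HKK.Loop

/-!
# Eigen-family of an automorphism on the loop Lie ring (helper1, for S3779)
-/

set_option autoImplicit false

namespace Cfsg.Agent.Helper1.HKK

variable {p : ℕ} [NeZero p] {L : Type*} [LieRing L]

/-- The "eigenspaces" of `φ` on `Loop p L`: `f ∈ eigenFam φ k ↔ ∀ i, φ (f i) = f (i - k)`
(i.e. `φ̃ f = x^k • f`, where `x` is the shift). -/
def eigenFam (φ : L →+ L) : ZMod p → AddSubgroup (Loop p L) := fun k =>
  { carrier := {f | ∀ i : ZMod p, φ (f i) = f (i - k)}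
    zero_mem' := by intro i; simp
    add_mem' := by
      intro f g hf hg i
      have h1 := hf i
      have h2 := hg i
      simp only [Loop.add_apply, map_add, h1, h2]
    neg_mem' := by
      intro f hf i
      have h1 := hf i
      simp only [Loop.neg_apply, map_neg, h1] }

theorem mem_eigenFam (φ : L →+ L) (k : ZMod p) (f : Loop p L) :
    f ∈ eigenFam φ k ↔ ∀ i : ZMod p, φ (f i) = f (i - k) := Iff.rfl

/-- The element `p·a·δ₀ - a·𝟙` of the loop ring: value `(p-1)•a` at `0` and `-a` elsewhere. -/
def spread (p : ℕ) [NeZero p] (a : L) : Loop p L := ⟨fun i => if i = 0 then (p - 1) • a else -a⟩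

theorem spread_apply (a : L) (i : ZMod p) :
    spread p a i = if i = 0 then (p - 1) • a else -a := rfl

end Cfsg.Agent.Helper1.HKK
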