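import Mathlib
import Cfsg.Agent.Helper1.HKK.Kreknin
import Cfsg.Agent.Helper38.HKKB2
import Cfsg.Agent.Helper91.HKKB3
import Cfsg.Agent.Helper65.HKKB4
import Cfsg.Agent.Helper76.HKKA2a
import Cfsg.Agent.Helper76.HKKA2c
import Cfsg.Agent.Helper24.HKKA2d
import Cfsg.Agent.Helper53.HKKA3
import Cfsg.Agent.Helper70.HKKGL

/-!
# Higman–Kreknin–Kostrikin: assembly (helper1, for S3779)

* `hkk_graded` : a `ZMod p`-graded family with trivial `0`-component is nilpotent of class `≤ h(p)`.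
* `lnb_eq_zero_of_fpf` : Lie ring form (Theorem H).
* `lcs_eq_bot_of_assoc` : the group-theoretic conclusion, from the associated Lie ring interface (LG).
-/

set_option autoImplicit false

namespace Cfsg.Agent.Helper1.HKK

universe u

section lie
variable {L : Type*} [LieRing L]

/-- (B3) Kostrikin–Kreknin. -/
theorem kostrikin {p : ℕ} [Fact p.Prime] (k : ℕ) (M : ZMod p → AddSubgroup L) (hM : IsGradedFam M)
    (hder : ∀ d, (der^[k] M) d = ⊥) : ∀ d, lcf M (hkkG p k) d = ⊥ :=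
  Cfsg.Agent.Helper91.HKK.kostrikin'
    (fun M hM j m h => Cfsg.Agent.Helper38.HKKB2.lcf_add_le M hM j m h) k M hM hder

/-- (KB) Higman–Kreknin–Kostrikin for graded families. -/
theorem hkk_graded {p : ℕ} [Fact p.Prime] (M : ZMod p → AddSubgroup L) (hM : IsGradedFam M) :
    ∀ d, lcf M (hkkG p (2 ^ (p - 1) - 1)) d = ⊥ :=
  kostrikin _ M hM (kreknin M hM)

/-- (A3) Theorem H: transfer from graded families on the loop ring to `L`. -/
theorem lnb_eq_zero_of_fpf {p : ℕ} [Fact p.Prime] (φ : L →+ L) (hφ : ∀ x y, φ ⁅x, y⁆ = ⁅φ x, φ y⁆)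
    (hp : ∀ a, φ^[p] a = a) (hfix : ∀ a, φ a = a → a = 0) (htor : ∀ a : L, p • a = 0 → a = 0) (c : ℕ)
    (hc : ∀ M : ZMod p → AddSubgroup (Loop p L), IsGradedFam M → ∀ d, lcf M c d = ⊥)
    (x : L) (ys : List L) (hlen : ys.length = c) : lnb x ys = 0 :=
  Cfsg.Agent.Helper53.HKK.lnb_eq_zero_of_fpf' φ hp hfix htor c hc
    (Cfsg.Agent.Helper76.HKK.isGradedFam_eigenFam φ hφ hfix)
    (fun a b => Cfsg.Agent.Helper76.HKK.lie_spread a b)
    (fun M x ys hx hys => Cfsg.Agent.Helper24.HKK.lnb_mem_iSup_lcf M x ys hx hys) x ys hlen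

end lie

/-- The conclusion of the associated Lie ring interface (LG) at `G`. -/
def AssocLieStmt (G : Type u) [Group G] : Prop :=
  ∃ (L : Type u) (_ : LieRing L) (q : ℕ → G → L),
    (∀ n x y, x ∈ Gam G n → y ∈ Gam G n → q n (x * y) = q n x + q n y) ∧
    (∀ n x, x ∈ Gam G n → (q n x = 0 ↔ x ∈ Gam G (n + 1))) ∧
    (∀ i j x y, 1 ≤ i → 1 ≤ j → x ∈ Gam G i → y ∈ Gam G j →
      ⁅q i x, q j y⁆ = q (i + j) (x * y * x⁻¹ * y⁻¹)) ∧
    (∀ a : L, ∃ (N : ℕ) (x : ℕ → G), (∀ n, x n ∈ Gam G n) ∧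
      a = ∑ n ∈ Finset.range N, q n (x n)) ∧
    (∀ (N : ℕ) (x : ℕ → G), (∀ n, x n ∈ Gam G n) → ∑ n ∈ Finset.range N, q n (x n) = 0 →
      ∀ n < N, q n (x n) = 0) ∧
    (∀ α : G ≃* G, ∃ φ : L →+ L, (∀ a b, φ ⁅a, b⁆ = ⁅φ a, φ b⁆) ∧
      ∀ n x, x ∈ Gam G n → φ (q n x) = q n (α x))

/-- S3779 from the associated Lie ring interface. -/
theorem hkk_group_of_assoc {G : Type u} [Group G] [Finite G] (hLG : AssocLieStmt G) {p : ℕ} (hp : p.Prime)
    (α : MulAut G) (hα : orderOf α = p) (hfpf : ∀ g : G, α g = g → g = 1) :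
    (p = 2 → (⊤ : Subgroup G).lowerCentralSeries 1 = ⊥) ∧
    (p = 3 → (⊤ : Subgroup G).lowerCentralSeries 2 = ⊥) ∧
    (⊤ : Subgroup G).lowerCentralSeries
      (Finset.sum (Finset.range (2 ^ (p - 1) - 1)) (fun i => (p - 1) ^ i)) = ⊥ := by
  haveI : Fact p.Prime := ⟨hp⟩
  have key : (⊤ : Subgroup G).lowerCentralSeries (hkkG p (2 ^ (p - 1) - 1)) = ⊥ :=
    Cfsg.Agent.Helper70.HKKGL.lcs_eq_bot_of_fpf' hp α hα hfpf _ hLG
      (fun L _ φ h1 h2 h3 h4 x ys hlen =>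
        lnb_eq_zero_of_fpf φ h1 h2 h3 h4 _ (fun M hM => hkk_graded M hM) x ys hlen)
  refine ⟨?_, ?_, key⟩
  · intro h2
    subst h2
    have : hkkG 2 (2 ^ (2 - 1) - 1) = 1 := by decide
    rw [this] at key
    exact key
  · intro h3
    subst h3
    exact Cfsg.Agent.Helper70.HKKGL.lcs_eq_bot_of_fpf' hp α hα hfpf 2 hLG
      (fun L _ φ h1 h2 h3 h4 x ys hlen =>
        lnb_eq_zero_of_fpf φ h1 h2 h3 h4 2
          (fun M hM => Cfsg.Agent.Helper65.HKK.lcf_two_eq_bot_three M hM) x ys hlen)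

end Cfsg.Agent.Helper1.HKK
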